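import Mathlib

/-! Idempotents of a tensor product over an algebraically closed field, and the subalgebra of
separable elements. -/

set_option autoImplicit false

open TensorProduct Polynomial

namespace Groth.Agent.Pi0Sub

section Lin

variable {k V W : Type*} [Field k] [AddCommGroup V] [Module k V] [AddCommGroup W] [Module k W]

/-- membership in `D ⊗ W` is tested on slices along a separating family of functionals -/
theorem mem_range_of_slices (D : Submodule k V) (x : V ⊗[k] W) (F : Set (W →ₗ[k] k))
    (hF : ∀ w : W, (∀ f ∈ F, f w = 0) → w = 0)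
    (h : ∀ f ∈ F, TensorProduct.rid k V (f.lTensor V x) ∈ D) :
    x ∈ LinearMap.range (D.subtype.rTensor W) := by
  have hex : Function.Exact (D.subtype.rTensor W) (D.mkQ.rTensor W) :=
    rTensor_exact W (LinearMap.exact_subtype_mkQ D) (Submodule.mkQ_surjective D)
  refine LinearMap.mem_range.2 ((hex x).1 ?_)
  let b := Module.Free.chooseBasis k (V ⧸ D)
  apply (TensorProduct.equivFinsuppOfBasisLeft b).injective
  rw [map_zero]
  refine Finsupp.ext fun i => ?_
  rw [Finsupp.zero_apply]
  refine hF _ fun f hf => ?_
  have key : ∀ z : V ⊗[k] W, f (TensorProduct.equivFinsuppOfBasisLeft b (D.mkQ.rTensor W z) i) =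
      b.repr (D.mkQ (TensorProduct.rid k V (f.lTensor V z))) i := by
    intro z
    induction z using TensorProduct.induction_on with
    | zero => simp
    | tmul v w => simp [TensorProduct.equivFinsuppOfBasisLeft_apply_tmul, mul_comm]
    | add z w hz hw => simp only [map_add, Finsupp.add_apply, hz, hw]
  rw [key, show D.mkQ (TensorProduct.rid k V (f.lTensor V x)) = 0 by simpa using h f hf]
  simp

theorem slices_of_mem_range {D : Submodule k V} {x : V ⊗[k] W}
    (h : x ∈ LinearMap.range (D.subtype.rTensor W)) (f : W →ₗ[k] k) :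
    TensorProduct.rid k V (f.lTensor V x) ∈ D := by
  obtain ⟨y, rfl⟩ := LinearMap.mem_range.1 h
  clear h
  induction y using TensorProduct.induction_on with
  | zero => simp
  | tmul d w => simpa using D.smul_mem _ d.2
  | add z w hz hw => simp only [map_add]; exact add_mem hz hw

/-- an element of `D ⊗ V` and of `V ⊗ D` lies in `D ⊗ D` -/
theorem mem_range_map (D : Submodule k V) (x : V ⊗[k] V) (F : Set (V →ₗ[k] k))
    (hF : ∀ w : V, (∀ f ∈ F, f w = 0) → w = 0)
    (h₁ : ∀ f ∈ F, TensorProduct.rid k V (f.lTensor V x) ∈ D)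
    (h₂ : ∀ f ∈ F, TensorProduct.rid k V (f.lTensor V (TensorProduct.comm k V V x)) ∈ D) :
    x ∈ LinearMap.range (TensorProduct.map D.subtype D.subtype) := by
  obtain ⟨y, hy⟩ := LinearMap.mem_range.1 (mem_range_of_slices D x F hF h₁)
  obtain ⟨z, hz⟩ := LinearMap.mem_range.1 (mem_range_of_slices D _ F hF h₂)
  obtain ⟨P, hP⟩ := D.subtype.exists_leftInverse_of_injective D.ker_subtype
  have hPd : ∀ d : D, P (d : V) = d := fun d => LinearMap.congr_fun hP d
  have hl : (D.subtype ∘ₗ P).rTensor V x = x := by
    rw [← hy]
    clear hy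
    induction y using TensorProduct.induction_on with
    | zero => simp
    | tmul d w => simp [hPd]
    | add a b ha hb => simp only [map_add, ha, hb]
  have hr : (D.subtype ∘ₗ P).lTensor V x = x := by
    apply (TensorProduct.comm k V V).injective
    have hc : ∀ u : V ⊗[k] V, TensorProduct.comm k V V ((D.subtype ∘ₗ P).lTensor V u) =
        (D.subtype ∘ₗ P).rTensor V (TensorProduct.comm k V V u) := by
      intro u
      induction u using TensorProduct.induction_on with
      | zero => simp
      | tmul a b => simp
      | add a b ha hb => simp only [map_add, ha, hb]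
    rw [hc, ← hz]
    clear hz hy hl
    induction z using TensorProduct.induction_on with
    | zero => simp
    | tmul d w => simp [hPd]
    | add a b ha hb => simp only [map_add, ha, hb]
  refine ⟨TensorProduct.map P P x, ?_⟩
  rw [← LinearMap.comp_apply, ← TensorProduct.map_comp,
    ← LinearMap.rTensor_comp_lTensor, LinearMap.comp_apply, hr, hl]

end Lin

variable {k A : Type*} [Field k] [CommRing A] [Algebra k A]

/-- the span of the idempotents -/
def idemSpan (k A : Type*) [Field k] [CommRing A] [Algebra k A] : Submodule k A :=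
  Submodule.span k {e : A | IsIdempotentElem e}

theorem eq_zero_of_isNilpotent_idem {R : Type*} [CommRing R] [Algebra k R] (s : Finset R) :
    (∀ f ∈ s, IsIdempotentElem f) → ∀ (g : R), IsIdempotentElem g → ∀ (c : k) (a : R → k),
      IsNilpotent (g * (algebraMap k R c + ∑ f ∈ s, a f • f)) →
      g * (algebraMap k R c + ∑ f ∈ s, a f • f) = 0 := by
  classical
  induction s using Finset.induction_on with
  | empty =>
    intro _ g hg c a hn
    simp only [Finset.sum_empty, add_zero] at hn ⊢
    rcases eq_or_ne c 0 with rfl | hc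
    · simp
    have hgn : IsNilpotent g := by
      have h2 := (Commute.all (g * algebraMap k R c) (algebraMap k R c⁻¹)).isNilpotent_mul_right hn
      rwa [mul_assoc, ← map_mul, mul_inv_cancel₀ hc, map_one, mul_one] at h2
    obtain ⟨n, hn'⟩ := hgn
    have : g = 0 := by
      rw [← hg.pow_succ_eq n, pow_succ, hn', zero_mul]
    rw [this, zero_mul]
  | insert f s hfs ih =>
    intro hs g hg c a hn
    have hf : IsIdempotentElem f := hs f (Finset.mem_insert_self _ _)
    have hs' : ∀ x ∈ s, IsIdempotentElem x := fun x hx => hs x (Finset.mem_insert_of_mem hx)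
    rw [Finset.sum_insert hfs] at hn ⊢
    set z := g * (algebraMap k R c + (a f • f + ∑ x ∈ s, a x • x)) with hz
    have e1 : z * f = (g * f) * (algebraMap k R (c + a f) + ∑ x ∈ s, a x • x) := by
      rw [hz, map_add, Algebra.smul_def]
      linear_combination (g * algebraMap k R (a f)) * hf.eq
    have e2 : z * (1 - f) = (g * (1 - f)) * (algebraMap k R c + ∑ x ∈ s, a x • x) := by
      rw [hz, Algebra.smul_def]
      linear_combination -(g * algebraMap k R (a f)) * hf.eq
    have h1 : z * f = 0 := by
      rw [e1]
      exact ih hs' _ (hg.mul hf) _ a (e1 ▸ (Commute.all z f).isNilpotent_mul_right hn)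
    have h2 : z * (1 - f) = 0 := by
      rw [e2]
      exact ih hs' _ (hg.mul hf.one_sub) _ a (e2 ▸ (Commute.all z _).isNilpotent_mul_right hn)
    calc z = z * f + z * (1 - f) := by ring
      _ = 0 := by rw [h1, h2, add_zero]

theorem eq_zero_of_mem_idemSpan {z : A} (hz : z ∈ idemSpan k A) (hn : IsNilpotent z) : z = 0 := by
  obtain ⟨l, hl, rfl⟩ := Submodule.mem_span_set.1 hz
  simpa [Finsupp.sum] using eq_zero_of_isNilpotent_idem l.support (fun f hf => hl hf) (1 : A)
    IsIdempotentElem.one (0 : k) (fun f => l f) (by simpa [Finsupp.sum] using hn)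

theorem map_mem_idemSpan {B : Type*} [CommRing B] [Algebra k B] (φ : A →ₐ[k] B) {z : A}
    (hz : z ∈ idemSpan k A) : φ z ∈ idemSpan k B := by
  induction hz using Submodule.span_induction with
  | mem x hx => exact Submodule.subset_span (hx.map φ)
  | zero => rw [map_zero]; exact zero_mem _
  | add x y _ _ hx hy => rw [map_add]; exact add_mem hx hy
  | smul c x _ hx => rw [map_smul]; exact Submodule.smul_mem _ c hx

variable [IsAlgClosed k]

theorem point_separates [Algebra.FiniteType k A] [_root_.IsReduced A] (a : A)
    (h : ∀ g : A →ₐ[k] k, g a = 0) : a = 0 := by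
  haveI : IsJacobsonRing A := isJacobsonRing_of_finiteType (A := k)
  refine IsNilpotent.eq_zero ?_
  rw [← mem_nilradical, nilradical, Ideal.radical_eq_jacobson, Ideal.jacobson, Ideal.mem_sInf]
  rintro m ⟨-, hm⟩
  haveI := hm
  letI : Field (A ⧸ m) := Ideal.Quotient.field m
  haveI : Module.Finite k (A ⧸ m) := finite_of_finite_type_of_isJacobsonRing k (A ⧸ m)
  let e : k ≃ₐ[k] (A ⧸ m) := AlgEquiv.ofBijective (Algebra.ofId k (A ⧸ m))
    (IsAlgClosed.algebraMap_bijective_of_isIntegral (k := k) (K := A ⧸ m))
  have := h (e.symm.toAlgHom.comp (Ideal.Quotient.mkₐ k m))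
  simp only [AlgHom.comp_apply, Ideal.Quotient.mkₐ_eq_mk, AlgEquiv.coe_algHom,
    EmbeddingLike.map_eq_zero_iff] at this
  exact Ideal.Quotient.eq_zero_iff_mem.1 this

theorem slice_idem {R : Type*} [CommRing R] [Algebra k R] (g : R →ₐ[k] k) {e : R ⊗[k] R}
    (he : IsIdempotentElem e) :
    IsIdempotentElem (TensorProduct.rid k R (g.toLinearMap.lTensor R e)) := by
  let Φ : R ⊗[k] R →ₐ[k] R := (Algebra.TensorProduct.rid k k R).toAlgHom.comp
    (Algebra.TensorProduct.map (AlgHom.id k R) g)
  have h : ∀ z : R ⊗[k] R, TensorProduct.rid k R (g.toLinearMap.lTensor R z) = Φ z := by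
    intro z
    induction z using TensorProduct.induction_on with
    | zero => simp
    | tmul v w => simp [Φ]
    | add z w hz hw => simp only [map_add, hz, hw]
  rw [h]
  exact he.map Φ

theorem mem_idemSpan_of_reduced {R : Type*} [CommRing R] [Algebra k R] [Algebra.FiniteType k R]
    [_root_.IsReduced R] {e : R ⊗[k] R} (he : IsIdempotentElem e) :
    e ∈ LinearMap.range (TensorProduct.map (idemSpan k R).subtype (idemSpan k R).subtype) := by
  refine mem_range_map _ e (Set.range fun g : R →ₐ[k] k => g.toLinearMap)
    (fun w hw => point_separates w fun g => hw _ ⟨g, rfl⟩) ?_ ?_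
  · rintro _ ⟨g, rfl⟩
    exact Submodule.subset_span (slice_idem g he)
  · rintro _ ⟨g, rfl⟩
    exact Submodule.subset_span (slice_idem g (he.map (Algebra.TensorProduct.comm k R R).toAlgHom))

theorem idem_tensor_fg {R : Type*} [CommRing R] [Algebra k R] [Algebra.FiniteType k R]
    {e : R ⊗[k] R} (he : IsIdempotentElem e) :
    e ∈ LinearMap.range (TensorProduct.map (idemSpan k R).subtype (idemSpan k R).subtype) := by
  let π : R →ₐ[k] R ⧸ nilradical R := Ideal.Quotient.mkₐ k _
  have hπ : Function.Surjective π := Ideal.Quotient.mk_surjective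
  haveI : Algebra.FiniteType k (R ⧸ nilradical R) := Algebra.FiniteType.of_surjective π hπ
  haveI : _root_.IsReduced (R ⧸ nilradical R) :=
    (Ideal.isRadical_iff_quotient_reduced _).1 (Ideal.radical_isRadical _)
  let Pi2 := Algebra.TensorProduct.map π π
  obtain ⟨y, hy⟩ := LinearMap.mem_range.1 (mem_idemSpan_of_reduced (he.map Pi2))
  have hlift : ∀ q ∈ idemSpan k (R ⧸ nilradical R), ∃ r ∈ idemSpan k R, π r = q := by
    intro q hq
    induction hq using Submodule.span_induction with
    | mem x hx =>
      obtain ⟨e', he', hee⟩ := exists_isIdempotentElem_eq_of_ker_isNilpotent π.toRingHom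
        (fun r hr => mem_nilradical.1 (Ideal.Quotient.eq_zero_iff_mem.1 hr)) x (hπ x) hx
      exact ⟨e', Submodule.subset_span he', hee⟩
    | zero => exact ⟨0, zero_mem _, map_zero _⟩
    | add x y _ _ hx hy =>
      obtain ⟨a, ha, rfl⟩ := hx
      obtain ⟨b, hb, rfl⟩ := hy
      exact ⟨a + b, add_mem ha hb, map_add _ _ _⟩
    | smul c x _ hx =>
      obtain ⟨a, ha, rfl⟩ := hx
      exact ⟨c • a, Submodule.smul_mem _ c ha, map_smul _ _ _⟩
  have hy' : ∃ w : idemSpan k R ⊗[k] idemSpan k R,
      Pi2 (TensorProduct.map (idemSpan k R).subtype (idemSpan k R).subtype w) = Pi2 e := by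
    rw [← hy]
    clear hy
    induction y using TensorProduct.induction_on with
    | zero => exact ⟨0, by simp⟩
    | tmul a b =>
      obtain ⟨a', ha', haa⟩ := hlift a a.2
      obtain ⟨b', hb', hbb⟩ := hlift b b.2
      exact ⟨⟨a', ha'⟩ ⊗ₜ ⟨b', hb'⟩, by simp [Pi2, haa, hbb]⟩
    | add z w hz hw =>
      obtain ⟨z', hz'⟩ := hz
      obtain ⟨w', hw'⟩ := hw
      exact ⟨z' + w', by rw [map_add, map_add, map_add, hz', hw']⟩
  obtain ⟨w, hw⟩ := hy'
  refine ⟨w, (sub_eq_zero.1 (eq_zero_of_mem_idemSpan (k := k) ?_ ?_)).symm⟩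
  · refine Submodule.sub_mem _ (Submodule.subset_span he) ?_
    clear hw
    induction w using TensorProduct.induction_on with
    | zero => simp
    | tmul a b =>
      have : ∀ a ∈ idemSpan k R, ∀ b ∈ idemSpan k R, a ⊗ₜ[k] b ∈ idemSpan k (R ⊗[k] R) := by
        intro a ha b hb
        induction ha using Submodule.span_induction with
        | mem x hx =>
          induction hb using Submodule.span_induction with
          | mem y hy =>
            refine Submodule.subset_span ?_
            show (x ⊗ₜ[k] y) * (x ⊗ₜ[k] y) = x ⊗ₜ[k] y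
            rw [Algebra.TensorProduct.tmul_mul_tmul, hx.eq, hy.eq]
          | zero => simp
          | add p q _ _ hp hq => rw [TensorProduct.tmul_add]; exact add_mem hp hq
          | smul c p _ hp => rw [TensorProduct.tmul_smul]; exact Submodule.smul_mem _ c hp
        | zero => simp
        | add p q _ _ hp hq => rw [TensorProduct.add_tmul]; exact add_mem hp hq
        | smul c p _ hp => rw [← TensorProduct.smul_tmul']; exact Submodule.smul_mem _ c hp
      exact this a a.2 b b.2
    | add z w hz hw => rw [map_add]; exact add_mem hz hw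
  · have hk : e - TensorProduct.map (idemSpan k R).subtype (idemSpan k R).subtype w ∈
        RingHom.ker Pi2 := by rw [RingHom.mem_ker, map_sub, hw, sub_self]
    rw [← mem_nilradical]
    rw [Algebra.TensorProduct.map_ker π π hπ hπ] at hk
    refine SetLike.le_def.1 (sup_le ?_ ?_) hk <;>
    · rw [Ideal.map_le_iff_le_comap]
      intro r hr
      rw [Ideal.mem_comap, mem_nilradical]
      exact (mem_nilradical.1 (Ideal.Quotient.eq_zero_iff_mem.1 hr)).map _

theorem idem_tensor {e : A ⊗[k] A} (he : IsIdempotentElem e) :
    e ∈ LinearMap.range (TensorProduct.map (idemSpan k A).subtype (idemSpan k A).subtype) := by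
  classical
  obtain ⟨S, hS⟩ := TensorProduct.exists_finset e
  let A' : Subalgebra k A := Algebra.adjoin k ((S.image Prod.fst ∪ S.image Prod.snd : Finset A) : Set A)
  haveI : Algebra.FiniteType k A' := (Subalgebra.fg_iff_finiteType A').1 (Subalgebra.fg_adjoin_finset _)
  have hmem : ∀ p ∈ S, p.1 ∈ A' ∧ p.2 ∈ A' := fun p hp =>
    ⟨Algebra.subset_adjoin (Finset.mem_coe.2 (Finset.mem_union_left _ (Finset.mem_image_of_mem _ hp))),
     Algebra.subset_adjoin (Finset.mem_coe.2 (Finset.mem_union_right _ (Finset.mem_image_of_mem _ hp)))⟩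
  let e' : A' ⊗[k] A' := ∑ p ∈ S.attach, (⟨p.1.1, (hmem p.1 p.2).1⟩ : A') ⊗ₜ ⟨p.1.2, (hmem p.1 p.2).2⟩
  let J := Algebra.TensorProduct.map A'.val A'.val
  have hJ : Function.Injective J := by
    have h1 : Function.Injective (TensorProduct.map A'.val.toLinearMap A'.val.toLinearMap) := by
      rw [← LinearMap.rTensor_comp_lTensor]
      exact (Module.Flat.rTensor_preserves_injective_linearMap _ Subtype.val_injective).comp
        (Module.Flat.lTensor_preserves_injective_linearMap _ Subtype.val_injective)
    exact h1
  have hee : J e' = e := by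
    simp only [e', map_sum, J, Algebra.TensorProduct.map_tmul, Subalgebra.coe_val]
    rw [hS]
    exact S.sum_attach fun p => p.1 ⊗ₜ[k] p.2
  have he' : IsIdempotentElem e' := hJ (by rw [map_mul, hee]; exact he.eq)
  obtain ⟨w, hw⟩ := LinearMap.mem_range.1 (idem_tensor_fg he')
  rw [← hee, ← hw]
  clear hw
  induction w using TensorProduct.induction_on with
  | zero => simp
  | tmul a b =>
    exact ⟨⟨_, map_mem_idemSpan A'.val a.2⟩ ⊗ₜ ⟨_, map_mem_idemSpan A'.val b.2⟩, by simp [J]⟩
  | add z w hz hw => simp only [map_add]; exact add_mem hz hw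

theorem mem_idemSpan_of_isSeparable {a : A} (ha : IsSeparable k a) : a ∈ idemSpan k A := by
  classical
  by_cases hA : Subsingleton A
  · rw [Subsingleton.elim a 0]; exact zero_mem _
  haveI : Nontrivial A := not_subsingleton_iff_nontrivial.1 hA
  have hint : IsIntegral k a := ha.isIntegral
  set P := minpoly k a
  have hsplit : P.Splits := IsAlgClosed.splits P
  let s : Finset k := P.roots.toFinset
  have hP : P = Lagrange.nodal s id := by
    have hnd : P.roots.Nodup := Polynomial.nodup_roots ha
    conv_lhs => rw [hsplit.eq_prod_roots_of_monic (minpoly.monic hint)]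
    rw [Lagrange.nodal, Finset.prod_eq_multiset_prod]
    congr 1
    simp [s, Multiset.dedup_eq_self.2 hnd]
  have hvanish : ∀ q : k[X], (∀ r ∈ s, q.eval r = 0) → aeval a q = 0 := by
    intro q hq
    have hdvd : P ∣ q := by
      rw [hP, Lagrange.nodal]
      refine Finset.prod_dvd_of_coprime ?_ fun r hr => dvd_iff_isRoot.2 (hq r hr)
      intro r _ r' _ hne
      exact isCoprime_X_sub_C_of_isUnit_sub (sub_ne_zero.2 hne).isUnit
    obtain ⟨c, rfl⟩ := hdvd
    rw [map_mul, minpoly.aeval, zero_mul]
  have hinj : Set.InjOn (id : k → k) s := Function.injective_id.injOn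
  have hid : ∀ r ∈ s, IsIdempotentElem (aeval a (Lagrange.basis s id r)) := by
    intro r hr
    have := hvanish (Lagrange.basis s id r * Lagrange.basis s id r - Lagrange.basis s id r) ?_
    · rwa [map_sub, map_mul, sub_eq_zero] at this
    intro r' hr'
    by_cases hrr : r = r'
    · subst hrr
      have := Lagrange.eval_basis_self hinj hr
      simp only [id_eq] at this
      simp [this]
    · have := Lagrange.eval_basis_of_ne (v := (id : k → k)) hrr hr'
      simp only [id_eq] at this
      simp [this]
  have hsum : a = ∑ r ∈ s, r • aeval a (Lagrange.basis s id r) := by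
    have := hvanish (X - ∑ r ∈ s, C r * Lagrange.basis s id r) ?_
    · rw [map_sub, aeval_X, map_sum, sub_eq_zero] at this
      refine this.trans (Finset.sum_congr rfl fun r _ => ?_)
      rw [map_mul, aeval_C, Algebra.smul_def]
    intro r hr
    rw [eval_sub, eval_X, eval_finset_sum, Finset.sum_eq_single r]
    · have := Lagrange.eval_basis_self hinj hr
      simp only [id_eq] at this
      simp [this]
    · intro r' _ hne
      have := Lagrange.eval_basis_of_ne (v := (id : k → k)) hne hr
      simp only [id_eq] at this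
      simp [this]
    · exact fun h => absurd hr h
  rw [hsum]
  exact Submodule.sum_mem _ fun r hr => Submodule.smul_mem _ _ (Submodule.subset_span (hid r hr))

omit [IsAlgClosed k] in
theorem isSeparable_of_idem {e : A} (he : IsIdempotentElem e) : IsSeparable k e := by
  refine Polynomial.Separable.of_dvd ?_ (minpoly.dvd k e (p := X * (X - C 1)) ?_)
  · refine (separable_X).mul separable_X_sub_C ?_
    have := isCoprime_X_sub_C_of_isUnit_sub (R := k) (a := 0) (b := 1) (by simp)
    simpa using this
  · simp [mul_sub, he.eq]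

end Groth.Agent.Pi0Sub
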